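import Groth.Prelude.Def_EtCech
import Groth.Agent.SSExist.H0Derived
import Groth.Agent.TriH.Delta
import Groth.Agent.TriH.DeltaIso
import Groth.Agent.TriH.RDer
import Mathlib.CategoryTheory.Limits.Shapes.ConcreteCategory
import Mathlib.CategoryTheory.Limits.FunctorCategory.EpiMono
import Mathlib.Logic.Small.Basic
import Mathlib.Data.Finsupp.Basic

/-!
# Čech cohomology of injective presheaves vanishes in positive degrees (any category with small homs)
-/

set_option autoImplicit false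
set_option linter.style.haveILetI false

open CategoryTheory CategoryTheory.Limits Opposite AlgebraicTopology Simplicial

namespace Groth.Agent.CechInj

universe w v u

variable {C : Type u} [Category.{v} C] {X : C} [HasFiniteProducts (Over X)] {ι : Type w} (Y : ι → Over X)

/-- The Čech complex functor of a family over an object. -/
noncomputable abbrev cechF : (Cᵒᵖ ⥤ AddCommGrpCat.{w}) ⥤ CochainComplex AddCommGrpCat.{w} ℕ :=
  (Functor.whiskeringLeft (Over X)ᵒᵖ Cᵒᵖ AddCommGrpCat.{w}).obj (Over.forget X).op ⋙ cechComplexFunctor Y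

/-- The fibre product of a tuple of members of the family. -/
noncomputable abbrev prodObj {n : ℕ} (x : Fin (n + 1) → ι) : Over X := ∏ᶜ (Y ∘ x)

/-- The value on a tuple. -/
noncomputable def cproj (P : Cᵒᵖ ⥤ AddCommGrpCat.{w}) (n : ℕ) (x : Fin (n + 1) → ι) :
    ((cechF Y).obj P).X n ⟶ P.obj (op (prodObj Y x).left) :=
  Pi.π (fun x : Fin (n + 1) → ι => P.obj (op (prodObj Y x).left)) x

lemma cproj_ext {P : Cᵒᵖ ⥤ AddCommGrpCat.{w}} {n : ℕ} {a b : ((cechF Y).obj P).X n}
    (h : ∀ x, cproj Y P n x a = cproj Y P n x b) : a = b :=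
  Concrete.limit_ext (Discrete.functor fun x : Fin (n + 1) → ι => P.obj (op (prodObj Y x).left)) a b
    (fun ⟨x⟩ => h x)

/-- A cochain with given values. -/
noncomputable def cmk (P : Cᵒᵖ ⥤ AddCommGrpCat.{w}) (n : ℕ)
    (v : ∀ x : Fin (n + 1) → ι, P.obj (op (prodObj Y x).left)) : ((cechF Y).obj P).X n :=
  (Concrete.productEquiv (fun x : Fin (n + 1) → ι => P.obj (op (prodObj Y x).left))).symm v

lemma cproj_cmk (P : Cᵒᵖ ⥤ AddCommGrpCat.{w}) (n : ℕ)
    (v : ∀ x : Fin (n + 1) → ι, P.obj (op (prodObj Y x).left)) (x : Fin (n + 1) → ι) :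
    cproj Y P n x (cmk Y P n v) = v x :=
  Concrete.productEquiv_symm_apply_π (fun x : Fin (n + 1) → ι => P.obj (op (prodObj Y x).left)) v x

lemma cechF_map_cproj {P Q : Cᵒᵖ ⥤ AddCommGrpCat.{w}} (α : P ⟶ Q) (n : ℕ) (x : Fin (n + 1) → ι)
    (a : ((cechF Y).obj P).X n) :
    cproj Y Q n x (((cechF Y).map α).f n a) = α.app (op (prodObj Y x).left) (cproj Y P n x a) :=
  ConcreteCategory.congr_hom (Pi.map_π (fun x : Fin (n + 1) → ι => α.app (op (prodObj Y x).left)) x) a

/-- The projection of a tuple's product. -/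
noncomputable abbrev faceHom {n : ℕ} (x : Fin (n + 2) → ι) (j : Fin (n + 2)) :
    prodObj Y x ⟶ prodObj Y (x ∘ j.succAbove) :=
  Pi.lift fun a => Pi.π (Y ∘ x) (j.succAbove a)

lemma cproj_d (P : Cᵒᵖ ⥤ AddCommGrpCat.{w}) (n : ℕ) (x : Fin (n + 2) → ι) (a : ((cechF Y).obj P).X n) :
    cproj Y P (n + 1) x (((cechF Y).obj P).d n (n + 1) a) =
      ∑ j : Fin (n + 2), (-1 : ℤ) ^ (j : ℕ) • P.map (faceHom Y x j).left.op (cproj Y P n (x ∘ j.succAbove) a) := by
  let E := (FormalCoproduct.mk _ Y).cech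
  let Q := ((FormalCoproduct.cosimplicialObjectFunctor E).obj
    (((Functor.whiskeringLeft (Over X)ᵒᵖ Cᵒᵖ AddCommGrpCat.{w}).obj (Over.forget X).op).obj P))
  have h : ((cechF Y).obj P).d n (n + 1) = AlternatingCofaceMapComplex.objD Q n := by
    simp [cechF, cechComplexFunctor, FormalCoproduct.cochainComplexFunctor, alternatingCofaceMapComplex,
      AlternatingCofaceMapComplex.obj, Q, E]
  rw [h, AlternatingCofaceMapComplex.objD]
  let ev : (((cechF Y).obj P).X n ⟶ ((cechF Y).obj P).X (n + 1)) →+ P.obj (op (prodObj Y x).left) :=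
    AddMonoidHom.mk' (fun t => cproj Y P (n + 1) x (t a)) (fun s t => map_add (cproj Y P (n + 1) x).hom _ _)
  refine (map_sum ev _ _).trans (Finset.sum_congr rfl fun j _ => ?_)
  refine (map_zsmul ev _ _).trans (congrArg (_ • ·) ?_)
  exact ConcreteCategory.congr_hom (Pi.lift_π (fun i : Fin (n + 2) → ι =>
    Pi.π (fun x : Fin (n + 1) → ι => P.obj (op (prodObj Y x).left)) (i ∘ j.succAbove) ≫
      P.map (faceHom Y i j).left.op) x) a

/-- A point of the covering over `V`. -/
abbrev Pt (V : C) : Type (max w v) := Σ i, (V ⟶ (Y i).left)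

variable {Y}

/-- The lift of compatible points. -/
noncomputable def liftPt {n : ℕ} {V : C} (c : V ⟶ X) (p : Fin (n + 1) → Pt Y V)
    (hp : ∀ a, (p a).2 ≫ (Y (p a).1).hom = c) : Over.mk c ⟶ prodObj Y (Sigma.fst ∘ p) :=
  Pi.lift fun a => Over.homMk (p a).2 (hp a)

/-- The value of a cochain on compatible points. -/
noncomputable def evalPt (P : Cᵒᵖ ⥤ AddCommGrpCat.{w}) {n : ℕ} {V : C} (c : V ⟶ X) (p : Fin (n + 1) → Pt Y V)
    (hp : ∀ a, (p a).2 ≫ (Y (p a).1).hom = c) : ((cechF Y).obj P).X n →+ P.obj (op V) :=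
  (P.map (liftPt c p hp).left.op).hom.comp (cproj Y P n (Sigma.fst ∘ p)).hom

lemma evalPt_congr {P : Cᵒᵖ ⥤ AddCommGrpCat.{w}} {n : ℕ} {V : C} {c c' : V ⟶ X} {p p' : Fin (n + 1) → Pt Y V}
    {hp : ∀ a, (p a).2 ≫ (Y (p a).1).hom = c} {hp' : ∀ a, (p' a).2 ≫ (Y (p' a).1).hom = c'} (h : p = p')
    (a : ((cechF Y).obj P).X n) : evalPt P c p hp a = evalPt P c' p' hp' a := by
  subst h
  have : c = c' := (hp 0).symm.trans (hp' 0)
  subst this
  rfl

lemma evalPt_d (P : Cᵒᵖ ⥤ AddCommGrpCat.{w}) {n : ℕ} {V : C} (c : V ⟶ X) (p : Fin (n + 2) → Pt Y V)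
    (hp : ∀ a, (p a).2 ≫ (Y (p a).1).hom = c) (a : ((cechF Y).obj P).X n) :
    evalPt P c p hp (((cechF Y).obj P).d n (n + 1) a) =
      ∑ j : Fin (n + 2), (-1 : ℤ) ^ (j : ℕ) • evalPt P c (p ∘ j.succAbove) (fun b => hp _) a := by
  refine (congrArg (P.map (liftPt c p hp).left.op) (cproj_d Y P n (Sigma.fst ∘ p) a)).trans ?_
  rw [map_sum]
  refine Finset.sum_congr rfl fun j _ => ?_
  rw [map_zsmul]
  refine congrArg (_ • ·) ?_
  have hlift : liftPt c p hp ≫ faceHom Y (Sigma.fst ∘ p) j = liftPt c (p ∘ j.succAbove) (fun b => hp _) :=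
    Pi.hom_ext _ _ fun b => (Category.assoc _ _ _).trans ((congrArg (_ ≫ ·) (Pi.lift_π _ b)).trans
      ((Pi.lift_π _ _).trans (Pi.lift_π (fun b => (Over.homMk (p (j.succAbove b)).2 (hp _) :
        Over.mk c ⟶ Y (p (j.succAbove b)).1)) b).symm))
  refine Eq.trans ?_ (congrArg (fun l : Over.mk c ⟶ prodObj Y ((Sigma.fst ∘ p) ∘ j.succAbove) =>
    P.map l.left.op (cproj Y P n ((Sigma.fst ∘ p) ∘ j.succAbove) a)) hlift)
  exact (ConcreteCategory.congr_hom (P.map_comp (faceHom Y (Sigma.fst ∘ p) j).left.op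
    (liftPt c p hp).left.op) _).symm

/-- The points attached to a morphism into a fibre product. -/
noncomputable def ptsOf {n : ℕ} {V : C} (x : Fin (n + 1) → ι) (g : V ⟶ (prodObj Y x).left) : Fin (n + 1) → Pt Y V :=
  fun a => ⟨x a, g ≫ (Pi.π (Y ∘ x) a).left⟩

lemma ptsOf_cond {n : ℕ} {V : C} (x : Fin (n + 1) → ι) (g : V ⟶ (prodObj Y x).left) (a : Fin (n + 1)) :
    (ptsOf x g a).2 ≫ (Y (ptsOf x g a).1).hom = g ≫ (prodObj Y x).hom :=
  (Category.assoc _ _ _).trans (congrArg (g ≫ ·) (Over.w (Pi.π (Y ∘ x) a)))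

lemma evalPt_ptsOf (P : Cᵒᵖ ⥤ AddCommGrpCat.{w}) {n : ℕ} {V : C} (x : Fin (n + 1) → ι)
    (g : V ⟶ (prodObj Y x).left) (a : ((cechF Y).obj P).X n) :
    evalPt P _ (ptsOf x g) (ptsOf_cond x g) a = P.map g.op (cproj Y P n x a) := by
  have h : liftPt (g ≫ (prodObj Y x).hom) (ptsOf x g) (ptsOf_cond x g) = Over.homMk g rfl :=
    Pi.hom_ext _ _ fun b => (Pi.lift_π _ b).trans (Over.OverMorphism.ext rfl)
  exact congrArg (fun l : Over.mk (g ≫ (prodObj Y x).hom) ⟶ prodObj Y x => P.map l.left.op (cproj Y P n x a)) h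

lemma ptsOf_liftPt {n : ℕ} {V : C} (c : V ⟶ X) (p : Fin (n + 1) → Pt Y V)
    (hp : ∀ a, (p a).2 ≫ (Y (p a).1).hom = c) : ptsOf (Sigma.fst ∘ p) (liftPt c p hp).left = p := by
  funext a
  have h := congrArg CommaMorphism.left (Pi.lift_π (fun a => (Over.homMk (p a).2 (hp a) : Over.mk c ⟶ Y (p a).1)) a)
  exact congrArg (Sigma.mk (p a).1) h

/-- Exactness of a short complex of presheaves is checked objectwise. -/
lemma exact_of_evaluation (S : ShortComplex (Cᵒᵖ ⥤ AddCommGrpCat.{w}))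
    (h : ∀ V : Cᵒᵖ, (S.map ((evaluation Cᵒᵖ AddCommGrpCat.{w}).obj V)).Exact) : S.Exact := by
  rw [ShortComplex.exact_iff_isZero_homology]
  refine Functor.isZero _ fun V => ?_
  exact ((ShortComplex.exact_iff_isZero_homology _).1 (h V)).of_iso
    (S.mapHomologyIso ((evaluation Cᵒᵖ AddCommGrpCat.{w}).obj V)).symm

variable (Y)

/-- The first composite of a point. -/
abbrev base {V : C} (q : Pt Y V) : V ⟶ X := q.2 ≫ (Y q.1).hom

/-- Tuples of points of the covering with one image in the base. -/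
abbrev Tup (n : ℕ) (V : C) : Type (max w v) :=
  {p : Fin (n + 1) → Pt Y V // ∀ a, base Y (p a) = base Y (p 0)}

variable {Y}

/-- Omitting an entry. -/
def Tup.face {n : ℕ} {V : C} (t : Tup Y (n + 1) V) (j : Fin (n + 2)) : Tup Y n V :=
  ⟨t.1 ∘ j.succAbove, fun a => (t.2 _).trans (t.2 _).symm⟩

/-- Restriction. -/
def Tup.res {n : ℕ} {V W : C} (k : W ⟶ V) (t : Tup Y n V) : Tup Y n W :=
  ⟨fun a => ⟨(t.1 a).1, k ≫ (t.1 a).2⟩, fun a => by
    change (k ≫ (t.1 a).2) ≫ _ = (k ≫ (t.1 0).2) ≫ _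
    rw [Category.assoc, Category.assoc]
    exact congrArg (k ≫ ·) (t.2 a)⟩

open Classical in
/-- A chosen point over the same base point. -/
noncomputable def coneQ {V : C} (c : V ⟶ X) (h : Nonempty {q : Pt Y V // base Y q = c}) : Pt Y V :=
  h.some.1

/-- Adding the chosen point. -/
noncomputable def Tup.cone {n : ℕ} {V : C} (t : Tup Y n V) : Tup Y (n + 1) V :=
  let h : Nonempty {q : Pt Y V // base Y q = base Y (t.1 0)} := ⟨⟨t.1 0, rfl⟩⟩
  ⟨Fin.cons h.some.1 t.1, fun a => by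
    refine Eq.trans ?_ h.some.2.symm
    refine Fin.cases ?_ (fun b => ?_) a
    · exact h.some.2
    · simpa using t.2 b⟩

lemma Tup.cone_face_zero {n : ℕ} {V : C} (t : Tup Y n V) : t.cone.face 0 = t := by
  apply Subtype.ext
  funext b
  simp [Tup.face, Tup.cone, Fin.succAbove_zero]

lemma cone_some_congr {V : C} {c c' : V ⟶ X} (e : c = c')
    (h : Nonempty {q : Pt Y V // base Y q = c}) (h' : Nonempty {q : Pt Y V // base Y q = c'}) :
    h.some.1 = h'.some.1 := by
  subst e; rfl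

lemma Tup.cone_face_succ {n : ℕ} {V : C} (t : Tup Y (n + 1) V) (j : Fin (n + 2)) :
    t.cone.face j.succ = (t.face j).cone := by
  apply Subtype.ext
  funext b
  refine Fin.cases ?_ (fun b => ?_) b
  · simp only [Tup.face, Tup.cone, Function.comp_apply, Fin.succ_succAbove_zero, Fin.cons_zero]
    exact cone_some_congr (t.2 _).symm _ _
  · simp [Tup.face, Tup.cone]
    rfl

section Free

variable [LocallySmall.{w} C]

instance small_pt (V : C) : Small.{w} (Pt Y V) :=
  small_sigma _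

instance small_tup (n : ℕ) (V : C) : Small.{w} (Tup Y n V) := inferInstance

variable (Y) in
/-- The free abelian group on the tuples over `V`. -/
abbrev FTup (n : ℕ) (V : C) : Type w := Shrink.{w} (Tup Y n V) →₀ ℤ

/-- A basis element. -/
noncomputable def gen {n : ℕ} {V : C} (t : Tup Y n V) : FTup Y n V :=
  Finsupp.single (equivShrink _ t) 1

/-- Homomorphisms out of the free group. -/
noncomputable def extd {n : ℕ} {V : C} {A : Type*} [AddCommGroup A] (f : Tup Y n V → A) :
    FTup Y n V →+ A :=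
  Finsupp.liftAddHom fun s => (zmultiplesHom A) (f ((equivShrink _).symm s))

lemma extd_gen {n : ℕ} {V : C} {A : Type*} [AddCommGroup A] (f : Tup Y n V → A) (t : Tup Y n V) :
    extd f (gen t) = f t := by
  simp [extd, gen]

lemma hom_ext_gen {n : ℕ} {V : C} {A : Type*} [AddCommGroup A] {f g : FTup Y n V →+ A}
    (h : ∀ t, f (gen t) = g (gen t)) : f = g := by
  refine Finsupp.addHom_ext' fun s => AddMonoidHom.ext_int ?_
  simpa [gen] using h ((equivShrink _).symm s)

/-- Restriction of formal sums. -/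
noncomputable def resHom {n : ℕ} {V W : C} (k : W ⟶ V) : FTup Y n V →+ FTup Y n W :=
  extd fun t => gen (t.res k)

lemma resHom_gen {n : ℕ} {V W : C} (k : W ⟶ V) (t : Tup Y n V) :
    resHom k (gen t) = gen (t.res k) :=
  extd_gen _ t

lemma resHom_id {n : ℕ} {V : C} : resHom (Y := Y) (n := n) (𝟙 V) = AddMonoidHom.id _ :=
  hom_ext_gen fun t => by
    rw [resHom_gen, AddMonoidHom.id_apply]
    congr 1
    apply Subtype.ext
    funext a
    simp [Tup.res]

lemma resHom_comp {n : ℕ} {V W T : C} (k : W ⟶ V) (l : T ⟶ W) :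
    resHom (Y := Y) (n := n) (l ≫ k) = (resHom l).comp (resHom k) :=
  hom_ext_gen fun t => by
    rw [AddMonoidHom.comp_apply, resHom_gen, resHom_gen, resHom_gen]
    congr 1
    apply Subtype.ext
    funext a
    simp [Tup.res]

variable (Y) in
/-- The presheaf of free groups on tuples. -/
noncomputable def free (n : ℕ) : Cᵒᵖ ⥤ AddCommGrpCat.{w} where
  obj V := AddCommGrpCat.of (FTup Y n V.unop)
  map k := AddCommGrpCat.ofHom (resHom k.unop)
  map_id _ := AddCommGrpCat.hom_ext (resHom_id (Y := Y))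
  map_comp k l := AddCommGrpCat.hom_ext (resHom_comp k.unop l.unop)

/-- The alternating face map. -/
noncomputable def dd (n : ℕ) (V : C) : FTup Y (n + 1) V →+ FTup Y n V :=
  extd fun t => ∑ j : Fin (n + 2), (-1 : ℤ) ^ (j : ℕ) • gen (t.face j)

lemma dd_natural (n : ℕ) {V W : C} (k : W ⟶ V) :
    (dd (Y := Y) n W).comp (resHom k) = (resHom k).comp (dd n V) :=
  hom_ext_gen fun t => by
    simp only [AddMonoidHom.comp_apply, resHom_gen, dd, extd_gen, map_sum, map_zsmul]
    rfl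

variable (Y) in
/-- The differential of the free complex. -/
noncomputable def freeD (n : ℕ) : free Y (n + 1) ⟶ free Y n where
  app V := AddCommGrpCat.ofHom (dd n V.unop)
  naturality {V W} k := AddCommGrpCat.hom_ext (dd_natural n k.unop)

lemma face_face {n : ℕ} {V : C} (t : Tup Y (n + 2) V) {i : Fin (n + 3)} {j : Fin (n + 2)}
    (h : i ≤ j.castSucc) : (t.face j.succ).face (i.castPred (Fin.ne_last_of_lt
      (lt_of_le_of_lt h (Fin.castSucc_lt_succ)))) = (t.face i).face j := by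
  apply Subtype.ext
  funext b
  change t.1 _ = t.1 _
  congr 1
  rcases i with ⟨i, hi⟩
  rcases j with ⟨j, hj⟩
  rcases b with ⟨b, hb⟩
  simp [Fin.succAbove, Fin.lt_def, Fin.le_def] at h ⊢
  split_ifs <;> simp_all <;> omega

lemma dd_dd (n : ℕ) (V : C) (z : FTup Y (n + 2) V) : dd n V (dd (n + 1) V z) = 0 := by
  suffices (dd (Y := Y) n V).comp (dd (n + 1) V) = 0 from DFunLike.congr_fun this z
  refine hom_ext_gen fun t => ?_
  simp only [AddMonoidHom.comp_apply, AddMonoidHom.zero_apply, dd, extd_gen, map_sum, map_zsmul,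
    Finset.smul_sum, smul_smul, ← pow_add]
  let g : Fin (n + 3) × Fin (n + 2) → FTup Y n V := fun ij =>
    (-1 : ℤ) ^ ((ij.1 : ℕ) + (ij.2 : ℕ)) • gen ((t.face ij.1).face ij.2)
  rw [← Fintype.sum_prod_type (f := g)]
  let S : Finset (Fin (n + 3) × Fin (n + 2)) := Finset.univ.filter fun ij => (ij.1 : ℕ) ≤ ij.2
  rw [← Finset.sum_add_sum_compl S, add_eq_zero_iff_eq_neg, ← Finset.sum_neg_distrib]
  refine Finset.sum_bij (fun ij hij => (ij.2.succ, ⟨ij.1, by
      have := (Finset.mem_filter.1 hij).2; omega⟩)) ?_ ?_ ?_ ?_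
  · intro ij hij
    have := (Finset.mem_filter.1 hij).2
    simp [S]
    omega
  · intro a ha b hb e
    simp [Prod.ext_iff, Fin.ext_iff] at e ⊢
    omega
  · intro b hb
    simp [S] at hb
    have hb2 : (b.1 : ℕ) - 1 < n + 2 := by omega
    refine ⟨(⟨b.2, by omega⟩, ⟨b.1 - 1, hb2⟩), ?_, ?_⟩
    · simp [S]; omega
    · simp [Prod.ext_iff, Fin.ext_iff]; omega
  · intro ij hij
    have h := (Finset.mem_filter.1 hij).2
    have e := face_face t (i := ij.1) (j := ij.2) h
    simp only [g, Fin.val_succ]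
    rw [← e, ← neg_smul]
    refine congrArg₂ (· • ·) ?_ rfl
    have : (ij.2 : ℕ) + 1 + (ij.1 : ℕ) = (ij.1 : ℕ) + (ij.2 : ℕ) + 1 := by omega
    rw [this, pow_succ, mul_neg_one, neg_neg]

lemma dd_exact (n : ℕ) (V : C) (z : FTup Y (n + 1) V) (hz : dd n V z = 0) :
    dd (n + 1) V (extd (fun t => gen t.cone) z) = z := by
  have key : (dd (Y := Y) (n + 1) V).comp (extd fun t => gen t.cone) +
      (extd fun t => gen t.cone).comp (dd n V) = AddMonoidHom.id _ := by
    refine hom_ext_gen fun t => ?_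
    simp only [AddMonoidHom.add_apply, AddMonoidHom.comp_apply, AddMonoidHom.id_apply, extd_gen,
      dd, map_sum, map_zsmul]
    rw [Fin.sum_univ_succ]
    simp only [Fin.val_zero, pow_zero, one_smul, Tup.cone_face_zero, Tup.cone_face_succ,
      Fin.val_succ, pow_succ, mul_neg_one, neg_smul, Finset.sum_neg_distrib]
    abel
  have := DFunLike.congr_fun key z
  simpa [hz] using this

variable (Y) in
lemma free_exact (n : ℕ) :
    (ShortComplex.mk (freeD Y (n + 1)) (freeD Y n) (NatTrans.ext (funext fun V =>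
      AddCommGrpCat.hom_ext (AddMonoidHom.ext fun z => dd_dd n V.unop z)))).Exact := by
  refine exact_of_evaluation _ fun V => ?_
  rw [ShortComplex.ab_exact_iff]
  exact fun z hz => ⟨extd (fun t => gen t.cone) z, dd_exact n V.unop z hz⟩

variable {P : Cᵒᵖ ⥤ AddCommGrpCat.{w}}

/-- A cochain as a map out of the free presheaf. -/
noncomputable def toHom {n : ℕ} (a : ((cechF Y).obj P).X n) : free Y n ⟶ P where
  app V := AddCommGrpCat.ofHom (extd fun t => evalPt P (base Y (t.1 0)) t.1 t.2 a)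
  naturality {V W} k := AddCommGrpCat.hom_ext <| hom_ext_gen (n := n) (V := V.unop) fun t => by
    change extd (fun t : Tup Y n W.unop => evalPt P (base Y (t.1 0)) t.1 t.2 a) (resHom k.unop (gen t)) =
      P.map k (extd (fun t : Tup Y n V.unop => evalPt P (base Y (t.1 0)) t.1 t.2 a) (gen t))
    rw [resHom_gen, extd_gen, extd_gen]
    let kh : Over.mk (base Y ((t.res k.unop).1 0)) ⟶ Over.mk (base Y (t.1 0)) :=
      Over.homMk k.unop (Category.assoc _ _ _).symm
    have hl : liftPt (base Y ((t.res k.unop).1 0)) (t.res k.unop).1 (t.res k.unop).2 =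
        (Over.homMk k.unop (Category.assoc _ _ _).symm : Over.mk (base Y ((t.res k.unop).1 0)) ⟶
          Over.mk (base Y (t.1 0))) ≫ liftPt (base Y (t.1 0)) t.1 t.2 :=
      Pi.hom_ext _ _ fun b => (Pi.lift_π _ b).trans (((Category.assoc _ _ _).trans
        (congrArg (fun m : Over.mk (base Y (t.1 0)) ⟶ Y (t.1 b).1 => kh ≫ m)
          (Pi.lift_π (fun b => (Over.homMk (t.1 b).2 (t.2 b) : Over.mk (base Y (t.1 0)) ⟶ Y (t.1 b).1))
            b))).trans (Over.OverMorphism.ext rfl)).symm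
    refine (congrArg (fun l : Over.mk (base Y ((t.res k.unop).1 0)) ⟶ prodObj Y (Sigma.fst ∘ t.1) =>
      P.map l.left.op (cproj Y P n (Sigma.fst ∘ t.1) a)) hl).trans ?_
    exact ConcreteCategory.congr_hom (P.map_comp (liftPt _ t.1 t.2).left.op k) _

lemma toHom_app_gen {n : ℕ} (a : ((cechF Y).obj P).X n) {V : C} (t : Tup Y n V) :
    (toHom a).app (op V) (gen t) = evalPt P (base Y (t.1 0)) t.1 t.2 a :=
  extd_gen _ t

/-- The tautological tuple on a product. -/
noncomputable def taut {n : ℕ} (x : Fin (n + 1) → ι) : Tup Y n (prodObj Y x).left :=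
  ⟨ptsOf x (𝟙 _), fun a => (ptsOf_cond x (𝟙 _) a).trans (ptsOf_cond x (𝟙 _) 0).symm⟩

lemma evalPt_taut {n : ℕ} (x : Fin (n + 1) → ι) (a : ((cechF Y).obj P).X n)
    (h : ∀ b, base Y ((taut (Y := Y) x).1 b) = base Y ((taut (Y := Y) x).1 0)) :
    evalPt P _ (taut x).1 h a = cproj Y P n x a := by
  refine (evalPt_congr (hp' := ptsOf_cond x (𝟙 _)) rfl a).trans ((evalPt_ptsOf P x (𝟙 _) a).trans ?_)
  rw [op_id, P.map_id]
  rfl

lemma toHom_dd {n : ℕ} (φ : ((cechF Y).obj P).X n) {V : C} (t : Tup Y (n + 1) V) :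
    (toHom φ).app (op V) (dd n V (gen t)) =
      evalPt P (base Y (t.1 0)) t.1 t.2 (((cechF Y).obj P).d n (n + 1) φ) := by
  rw [dd, extd_gen]
  refine (map_sum ((toHom φ).app (op V)).hom _ _).trans ?_
  refine Eq.trans ?_ (evalPt_d P (base Y (t.1 0)) t.1 t.2 φ).symm
  refine Finset.sum_congr rfl fun j _ => ?_
  refine (map_zsmul ((toHom φ).app (op V)).hom _ _).trans ?_
  exact congrArg (_ • ·) ((toHom_app_gen φ (t.face j)).trans (evalPt_congr rfl φ))

/-- The value of a natural map on the tautological tuples is a cochain with these evaluations. -/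
lemma evalPt_cmk {n : ℕ} (ψ : free Y n ⟶ P) {V : C} (t : Tup Y n V) (c : V ⟶ X)
    (hc : ∀ b, base Y (t.1 b) = c) :
    evalPt P c t.1 hc (cmk Y P n fun x => ψ.app (op (prodObj Y x).left) (gen (taut x))) =
      ψ.app (op V) (gen t) := by
  let g : V ⟶ (prodObj Y (Sigma.fst ∘ t.1)).left := (liftPt c t.1 hc).left
  change P.map g.op (cproj Y P n _ (cmk Y P n _)) = _
  rw [cproj_cmk]
  refine (NatTrans.naturality_apply ψ g.op _).symm.trans ?_
  refine congrArg (fun z : FTup Y n V => ψ.app (op V) z) ?_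
  change resHom g (gen (taut (Sigma.fst ∘ t.1))) = gen t
  rw [resHom_gen]
  refine congrArg gen (Subtype.ext ?_)
  refine Eq.trans (funext fun b => ?_) (ptsOf_liftPt c t.1 hc)
  exact congrArg (Sigma.mk (t.1 b).1) (congrArg (fun m => g ≫ m) (Category.id_comp _))

/-- The cochain of a map out of the free presheaf. -/
lemma exists_cochain {n : ℕ} (φ : ((cechF Y).obj P).X (n + 1)) (ψ : free Y n ⟶ P)
    (hψ : freeD Y n ≫ ψ = toHom φ) :
    ∃ a : ((cechF Y).obj P).X n, ((cechF Y).obj P).d n (n + 1) a = φ := by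
  refine ⟨cmk Y P n fun x => ψ.app (op (prodObj Y x).left) (gen (taut x)), cproj_ext Y fun x => ?_⟩
  refine (evalPt_taut x _ (taut x).2).symm.trans (Eq.trans ?_ (evalPt_taut x φ (taut x).2))
  refine (evalPt_d P _ (taut x).1 (taut x).2 _).trans ?_
  have hval : ψ.app (op (prodObj Y x).left) (dd n (prodObj Y x).left (gen (taut x))) =
      (toHom φ).app (op (prodObj Y x).left) (gen (taut x)) := by
    rw [← hψ]
    rfl
  refine Eq.trans ?_ (hval.trans (toHom_app_gen φ (taut x)))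
  rw [dd, extd_gen]
  refine Eq.trans ?_ (map_sum (ψ.app (op (prodObj Y x).left)).hom _ _).symm
  refine Finset.sum_congr rfl fun j _ => ?_
  refine Eq.trans ?_ (map_zsmul (ψ.app (op (prodObj Y x).left)).hom _ _).symm
  exact congrArg (_ • ·) (evalPt_cmk ψ ((taut x).face j) _ (fun b => (taut x).2 _))

/-- Čech cohomology of an injective presheaf vanishes in positive degrees. -/
theorem exactAt_of_injective (P : Cᵒᵖ ⥤ AddCommGrpCat.{w}) [Injective P] (n : ℕ) :
    ((cechF Y).obj P).ExactAt (n + 1) := by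
  rw [HomologicalComplex.exactAt_iff' _ n (n + 1) (n + 2) (by simp) (by simp), ShortComplex.ab_exact_iff]
  intro (φ : ((cechF Y).obj P).X (n + 1)) hφ
  have hS := free_exact Y n
  have h0 : freeD Y (n + 1) ≫ toHom φ = 0 := by
    refine NatTrans.ext (funext fun V => AddCommGrpCat.hom_ext ?_)
    refine hom_ext_gen (n := n + 1 + 1) (V := V.unop) fun t => ?_
    refine (toHom_dd φ t).trans ?_
    exact (congrArg (evalPt P (base Y (t.1 0)) t.1 t.2) hφ).trans (map_zero _)
  exact exists_cochain φ (hS.descToInjective (toHom φ) h0) (hS.comp_descToInjective _ _)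

theorem isZero_cechH_of_injective (P : Cᵒᵖ ⥤ AddCommGrpCat.{w}) [Injective P] (p : ℕ) :
    IsZero (EtCech.cechH Y P (p + 1)) :=
  (((cechF Y).obj P).exactAt_iff_isZero_homology (p + 1)).1 (exactAt_of_injective P p)

end Free

variable (Y)

instance cechF_additive : (cechF Y).Additive where
  map_add {P Q} α β := HomologicalComplex.hom_ext _ _ fun n => AddCommGrpCat.ext fun a => cproj_ext Y fun x =>
    (cechF_map_cproj Y (α + β) n x a).trans
      ((congrArg₂ (· + ·) (cechF_map_cproj Y α n x a) (cechF_map_cproj Y β n x a)).symm.trans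
        (map_add (cproj Y Q n x).hom _ _).symm)

lemma isEffaceable_cechF [LocallySmall.{w} C] : SSExist.IsEffaceable (cechF Y) where
  exact S hS := by
    refine HomologicalComplex.shortExact_of_degreewise_shortExact _ fun n => ?_
    have hV : ∀ V : Cᵒᵖ, (S.map ((evaluation Cᵒᵖ AddCommGrpCat.{w}).obj V)).ShortExact :=
      fun V => hS.map_of_exact _
    refine { exact := ?_, mono_f := ?_, epi_g := ?_ }
    · rw [ShortComplex.ab_exact_iff]
      intro a ha
      have hex : ∀ x : Fin (n + 1) → ι, ∃ v, S.f.app (op (prodObj Y x).left) v = cproj Y S.X₂ n x a := fun x =>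
        (ShortComplex.ab_exact_iff _).1 (hV _).exact _
          ((cechF_map_cproj Y S.g n x a).symm.trans ((congrArg (cproj Y S.X₃ n x) ha).trans (map_zero _)))
      choose v hv using hex
      exact ⟨cmk Y S.X₁ n v, cproj_ext Y fun x =>
        (cechF_map_cproj Y S.f n x _).trans ((congrArg _ (cproj_cmk Y S.X₁ n v x)).trans (hv x))⟩
    · rw [AddCommGrpCat.mono_iff_injective]
      intro a b h
      refine cproj_ext Y fun x => ?_
      haveI := (hV (op (prodObj Y x).left)).mono_f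
      exact (AddCommGrpCat.mono_iff_injective _).1 (inferInstanceAs (Mono (S.map ((evaluation Cᵒᵖ AddCommGrpCat.{w}).obj _)).f))
        ((cechF_map_cproj Y S.f n x a).symm.trans ((congrArg (cproj Y S.X₂ n x) h).trans (cechF_map_cproj Y S.f n x b)))
    · rw [AddCommGrpCat.epi_iff_surjective]
      intro c
      have hsur : ∀ x : Fin (n + 1) → ι, ∃ v, S.g.app (op (prodObj Y x).left) v = cproj Y S.X₃ n x c := fun x =>
        (AddCommGrpCat.epi_iff_surjective _).1 (hV (op (prodObj Y x).left)).epi_g _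
      choose v hv using hsur
      exact ⟨cmk Y S.X₂ n v, cproj_ext Y fun x =>
        (cechF_map_cproj Y S.g n x _).trans ((congrArg _ (cproj_cmk Y S.X₂ n v x)).trans (hv x))⟩
  injective I hI n := isZero_cechH_of_injective (Y := Y) I n

section Delta

variable [LocallySmall.{w} C] [HasInjectiveResolutions (Cᵒᵖ ⥤ AddCommGrpCat.{w})]

/-- Čech cohomology as a delta-functor. -/
noncomputable def cechDelta : DeltaF.CohDeltaFunctor (Cᵒᵖ ⥤ AddCommGrpCat.{w}) AddCommGrpCat.{w} ℕ where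
  F n := EtCech.cechHFunctor Y n
  additive n := inferInstanceAs
    ((cechF Y ⋙ HomologicalComplex.homologyFunctor AddCommGrpCat.{w} (ComplexShape.up ℕ) n).Additive)
  δ S hS n₀ n₁ h := ((isEffaceable_cechF Y).exact S hS).δ n₀ n₁ h
  δ_natural {S S'} hS hS' φ n₀ n₁ h :=
    (HomologicalComplex.HomologySequence.δ_naturality ((cechF Y).mapShortComplex.map φ)
      ((isEffaceable_cechF Y).exact S hS) ((isEffaceable_cechF Y).exact S' hS') n₀ n₁ h).symm
  exact₂ S hS n := ((isEffaceable_cechF Y).exact S hS).homology_exact₂ n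
  comp_δ S hS n₀ n₁ h := ((isEffaceable_cechF Y).exact S hS).comp_δ n₀ n₁ h
  exact₃ S hS n₀ n₁ h := ((isEffaceable_cechF Y).exact S hS).homology_exact₃ n₀ n₁ h
  δ_comp S hS n₀ n₁ h := ((isEffaceable_cechF Y).exact S hS).δ_comp n₀ n₁ h
  exact₁ S hS n₀ n₁ h := ((isEffaceable_cechF Y).exact S hS).homology_exact₁ n₀ n₁ h

/-- The derived functors as a delta-functor. -/
noncomputable def derivedDelta {A : Type*} [Category A] [Abelian A] [HasInjectiveResolutions A] [EnoughInjectives A]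
    {B : Type*} [Category B] [Abelian B] (F : A ⥤ B) [F.Additive] :
    DeltaF.CohDeltaFunctor A B ℕ where
  F n := F.rightDerived n
  additive _ := inferInstance
  δ S hS n₀ n₁ h := (TriH.RDer.derivedLES F).δ S hS n₀ n₁ h
  δ_natural hS hS' φ n₀ n₁ h := (TriH.RDer.derivedLES F).δ_natural hS hS' φ n₀ n₁ h
  exact₂ S hS n := (TriH.RDer.derivedLES F).exact₂ S hS n
  comp_δ S hS n₀ n₁ h := (TriH.RDer.derivedLES F).comp_δ S hS n₀ n₁ h
  exact₃ S hS n₀ n₁ h := (TriH.RDer.derivedLES F).exact₃ S hS n₀ n₁ h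
  δ_comp S hS n₀ n₁ h := (TriH.RDer.derivedLES F).δ_comp S hS n₀ n₁ h
  exact₁ S hS n₀ n₁ h := (TriH.RDer.derivedLES F).exact₁ S hS n₀ n₁ h

/-- Čech cohomology computes the derived functors of the zeroth one. -/
theorem nonempty_iso_rightDerived [(EtCech.cechHFunctor (C := C) Y 0).Additive] (p : ℕ) :
    Nonempty (EtCech.cechHFunctor (C := C) Y p ≅ (EtCech.cechHFunctor (C := C) Y 0).rightDerived p) := by
  haveI := TriH.FinDim.enoughInjectives_of_hasInjectiveResolutions (A := Cᵒᵖ ⥤ AddCommGrpCat.{w})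
  haveI : PreservesFiniteLimits (EtCech.cechHFunctor (C := C) Y 0) :=
    SSExist.preservesFiniteLimits_hZero (cechF Y) (isEffaceable_cechF Y)
  let T := cechDelta Y
  let T' := derivedDelta (EtCech.cechHFunctor (C := C) Y 0)
  have hT : T.IsEffaceable := TriH.Delta.isEffaceable_of_isZero_injective T
    fun n I hI => (isEffaceable_cechF Y).injective I hI n
  let t : T.F 0 ⟶ T'.F 0 := (EtCech.cechHFunctor (C := C) Y 0).rightDerivedZeroIsoSelf.inv
  obtain ⟨φ, hφ, -⟩ := TriH.Delta.isUniversal_of_isEffaceable T hT T' t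
  have h0 : IsIso (φ.app 0) := by rw [hφ]; exact Iso.isIso_inv (EtCech.cechHFunctor (C := C) Y 0).rightDerivedZeroIsoSelf
  have h' : ∀ i : ℕ, 0 < i → i ≤ p → ∀ X : Cᵒᵖ ⥤ AddCommGrpCat.{w},
      ∃ (W : Cᵒᵖ ⥤ AddCommGrpCat.{w}) (m : X ⟶ W), Mono m ∧ (T'.F i).map m = 0 := by
    intro i hi _ X
    obtain ⟨j, rfl⟩ : ∃ j, i = j + 1 := ⟨i - 1, by omega⟩
    exact ⟨Injective.under X, Injective.ι X, inferInstance,
      ((EtCech.cechHFunctor (C := C) Y 0).isZero_rightDerived_obj_injective_succ j _).eq_of_tgt _ _⟩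
  exact ⟨@asIso _ _ (T.F p) (T'.F p) (φ.app p)
    (((TriH.Delta.iso_le_mono_succ_iff hT φ p).2.2 ⟨h0, h'⟩).1 p le_rfl)⟩

end Delta

end Groth.Agent.CechInj
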